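import Cfsg.Agent.ThreePrimes.Degree
import Cfsg.Agent.SelfThree.Main
import Cfsg.Agent.Blocks.KleinOrder
import Cfsg.Agent.Blocks.DefectZeroVanish
import Cfsg.Agent.S4479
import Cfsg.Agent.SmallSimple.Basic

/-!
# Simple groups of order `4 p^a q^b` and `3 p^a q^b`

The key facts are the identity `6 det M = tr³ M - 3 tr M tr M² + 2 tr M³` for three by three matrices, and, for a
Klein four Sylow subgroup, the factorisation of the order formula of the principal block.
-/

set_option autoImplicit false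
set_option linter.style.haveILetI false
set_option linter.unusedSectionVars false

namespace CfsgLib.ThreePrimes

open Cfsg CfsgLib.Block CfsgLib.Block.Chr CfsgLib.Char

universe u

variable {G : Type u} [Group G] [Finite G]

theorem six_mul_det {R : Type*} [CommRing R] (M : Matrix (Fin 3) (Fin 3) R) :
    6 * M.det = M.trace ^ 3 - 3 * M.trace * (M * M).trace + 2 * (M * M * M).trace := by
  simp only [Matrix.det_fin_three, Matrix.trace_fin_three, Matrix.mul_apply, Fin.sum_univ_three]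
  ring

theorem not_two_primes [IsSimpleGroup G] (hna : ¬ IsMulCommutative G) {p q a b : ℕ} (hp : p.Prime) (hq : q.Prime) :
    Nat.card G ≠ p ^ a * q ^ b := by
  intro h
  haveI := CfsgLib.Char.isSolvable_of_card_eq (G := G) p q a b hp hq h
  exact hna ⟨⟨fun x y => IsSimpleGroup.comm_iff_isSolvable.2 inferInstance x y⟩⟩

/-- No Sylow subgroup for the smallest prime is cyclic. -/
theorem not_cyclic_minFac [IsSimpleGroup G] {p : ℕ} [Fact p.Prime] (P : Sylow p G)
    (hp : (Nat.card G).minFac = p) (h1 : 1 < Nat.card (P : Subgroup G))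
    (h2 : Nat.card (P : Subgroup G) < Nat.card G) : ¬ IsCyclic (P : Subgroup G) := by
  intro hcyc
  have h := IsCyclic.isComplement' hp hcyc
  have hmul := h.card_mul
  rcases IsSimpleGroup.eq_bot_or_eq_top_of_normal _
    (show (MonoidHom.transferSylow P (IsCyclic.normalizer_le_centralizer hp hcyc)).ker.Normal from inferInstance)
    with e | e
  · rw [e, Subgroup.card_bot, one_mul] at hmul; omega
  · rw [e, Subgroup.card_top] at hmul
    nlinarith [Nat.card_pos (α := G)]

theorem eq_trivial_of_degree_one [IsSimpleGroup G] (hna : ¬ IsMulCommutative G) (χ : IrrCharacter G)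
    (h : charDegree (χ : G → ℂ) = 1) : (χ : G → ℂ) = fun _ => 1 := by
  obtain ⟨n, ρ, -, hρ⟩ := χ.2
  have hn : n = 1 := by
    have h1 : (χ : G → ℂ) 1 = (n : ℂ) := by
      rw [← hρ, Representation.char_one, Module.finrank_fintype_fun_eq_card, Fintype.card_fin]
    rw [charDegree, h1, Complex.natCast_re, Nat.floor_natCast] at h
    exact h
  subst hn
  let f : G →* ℂ :=
    { toFun := fun g => (LinearMap.toMatrixAlgEquiv' (ρ g)).det
      map_one' := by rw [map_one, map_one, Matrix.det_one]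
      map_mul' := fun a b => by rw [map_mul, map_mul, Matrix.det_mul] }
  funext g
  have hf : f.toHomUnits = 1 := CfsgLib.SmallSimple.hom_comm_eq_one hna _
  have := congrArg (fun φ : G →* ℂˣ => ((φ g : ℂˣ) : ℂ)) hf
  simp only [MonoidHom.coe_toHomUnits, MonoidHom.one_apply, Units.val_one] at this
  rw [← hρ]
  show LinearMap.trace ℂ _ (ρ g) = 1
  have htr : LinearMap.trace ℂ _ (ρ g) = (LinearMap.toMatrixAlgEquiv' (ρ g)).trace :=
    LinearMap.trace_eq_matrix_trace ℂ (Pi.basisFun ℂ (Fin 1)) (ρ g)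
  rw [htr, Matrix.trace_fin_one, ← Matrix.det_fin_one (LinearMap.toMatrixAlgEquiv' (ρ g))]
  exact this

/-- The relation between the values of a character of degree three of a non-abelian simple group. -/
theorem degree_three_identity [IsSimpleGroup G] (hna : ¬ IsMulCommutative G) (χ : IrrCharacter G)
    (h : charDegree (χ : G → ℂ) = 3) (g : G) :
    (χ : G → ℂ) g ^ 3 - 3 * (χ : G → ℂ) g * (χ : G → ℂ) (g * g) + 2 * (χ : G → ℂ) (g * g * g) = 6 := by
  obtain ⟨n, ρ, -, hρ⟩ := χ.2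
  have hn : n = 3 := by
    have h1 : (χ : G → ℂ) 1 = (n : ℂ) := by
      rw [← hρ, Representation.char_one, Module.finrank_fintype_fun_eq_card, Fintype.card_fin]
    rw [charDegree, h1, Complex.natCast_re, Nat.floor_natCast] at h
    exact h
  subst hn
  let f : G →* ℂ :=
    { toFun := fun g => (LinearMap.toMatrixAlgEquiv' (ρ g)).det
      map_one' := by rw [map_one, map_one, Matrix.det_one]
      map_mul' := fun a b => by rw [map_mul, map_mul, Matrix.det_mul] }
  have hdet : f g = 1 := by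
    have hf : f.toHomUnits = 1 := CfsgLib.SmallSimple.hom_comm_eq_one hna _
    have := congrArg (fun φ : G →* ℂˣ => ((φ g : ℂˣ) : ℂ)) hf
    simpa using this
  have htr : ∀ x : G, (χ : G → ℂ) x = (LinearMap.toMatrixAlgEquiv' (ρ x)).trace := fun x => by
    rw [← hρ]
    exact LinearMap.trace_eq_matrix_trace ℂ (Pi.basisFun ℂ (Fin 3)) (ρ x)
  rw [htr, htr, htr]
  simp only [map_mul]
  rw [← six_mul_det]
  rw [show (LinearMap.toMatrixAlgEquiv' (ρ g)).det = 1 from hdet, mul_one]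

theorem eq_one_of_apply_eq_degree [IsSimpleGroup G] (hna : ¬ IsMulCommutative G) (χ : IrrCharacter G)
    (hne : (χ : G → ℂ) ≠ fun _ => 1) {g : G} (h : (χ : G → ℂ) g = (χ : G → ℂ) 1) : g = 1 := by
  obtain ⟨n, ρ, hirr, hρ⟩ := χ.2
  by_contra hg
  haveI := hirr
  refine hne (hρ ▸ eq_one_of_norm_eq_of_simple (fun hc => hna ⟨⟨hc⟩⟩) ρ hg ?_)
  rw [show ρ.character g = (χ : G → ℂ) 1 by rw [hρ, h], ← hρ, Representation.char_one, Complex.norm_natCast]

theorem eq_two_of_mod_four {n : ℕ} (h4 : n % 4 = 2) (h : ∀ r : ℕ, r.Prime → r ∣ n → r = 2) : n = 2 := by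
  have hk := Nat.eq_prime_pow_of_unique_prime_dvd (show n ≠ 0 by omega) fun {d} hd hdn => h d hd hdn
  rcases hlen : n.primeFactorsList.length with _ | _ | k <;> rw [hlen] at hk
  · rw [pow_zero] at hk; omega
  · simpa using hk
  · rw [pow_succ, pow_succ] at hk; omega

/-- Some signed degree is `-3`. -/
theorem exists_neg_three (u w : ℕ) (hu : u.Prime) (hw : w.Prime) (e : Fin 3 → ℤ)
    (hsum : e 0 + e 1 + e 2 = -1) (h4 : ∀ i, e i % 4 = 1) (h1 : ∀ i, e i ≠ 1)
    (he : ∀ i, ∀ r : ℕ, r.Prime → (r : ℤ) ∣ e i → r = u ∨ r = w)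
    (hf : ∀ i, ∀ r : ℕ, r.Prime → (r : ℤ) ∣ e i + 1 → r = 2 ∨ r = u ∨ r = w) :
    ∃ i, e i = -3 := by
  have hu1 : ¬ (u : ℤ) ∣ -1 := fun hd => hu.not_dvd_one (Int.natCast_dvd_natCast.1 (by simpa using hd))
  have hw1 : ¬ (w : ℤ) ∣ -1 := fun hd => hw.not_dvd_one (Int.natCast_dvd_natCast.1 (by simpa using hd))
  obtain ⟨i, hi⟩ : ∃ i, ¬ (u : ℤ) ∣ e i := by
    by_contra hno
    push Not at hno
    exact hu1 (hsum ▸ dvd_add (dvd_add (hno 0) (hno 1)) (hno 2))
  obtain ⟨j, hj⟩ : ∃ j, ¬ (w : ℤ) ∣ e j := by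
    by_contra hno
    push Not at hno
    exact hw1 (hsum ▸ dvd_add (dvd_add (hno 0) (hno 1)) (hno 2))
  have hdiv : ∀ k, (u : ℤ) ∣ e k ∨ (w : ℤ) ∣ e k := by
    intro k
    have hne : (e k).natAbs ≠ 1 := by
      intro habs
      have := h4 k
      have := h1 k
      omega
    obtain ⟨r, hr, hrd⟩ := Nat.exists_prime_and_dvd hne
    have hrd' : (r : ℤ) ∣ e k := Int.natCast_dvd.2 hrd
    rcases he k r hr hrd' with rfl | rfl
    · exact Or.inl hrd'
    · exact Or.inr hrd'
  have hwi : (w : ℤ) ∣ e i := (hdiv i).resolve_left hi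
  have huj : (u : ℤ) ∣ e j := (hdiv j).resolve_right hj
  have hij : i ≠ j := fun h => hi (h ▸ huj)
  obtain ⟨k, hk⟩ : ∃ k, e k + 1 = -(e i + e j) := by
    fin_cases i <;> fin_cases j <;> simp at hij <;>
      first
        | exact ⟨2, by simp; linarith⟩
        | exact ⟨1, by simp; linarith⟩
        | exact ⟨0, by simp; linarith⟩
  refine ⟨k, ?_⟩
  have h4k := h4 k
  have h1k := h1 k
  have : (e k + 1).natAbs = 2 := eq_two_of_mod_four (by omega) fun r hr hrd => by
    have hrd' : (r : ℤ) ∣ e k + 1 := Int.natCast_dvd.2 hrd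
    rcases hf k r hr hrd' with h | h | h
    · exact h
    all_goals
      subst h
      rw [hk, dvd_neg] at hrd'
    · exact absurd ((dvd_add_left huj).1 hrd') hi
    · exact absurd ((dvd_add_right hwi).1 hrd') hj
  omega

/-- The signed degrees are `-3, -3, 5`. -/
theorem signed_degrees (w : ℕ) (hw : w.Prime) (hw3 : w ≠ 3) (x y z : ℤ) (hsum : x + y + z = -1) (hx : x = -3)
    (hy4 : y % 4 = 1) (hz4 : z % 4 = 1)
    (hey : ∀ r : ℕ, r.Prime → (r : ℤ) ∣ y → r = 3 ∨ r = w)
    (hez : ∀ r : ℕ, r.Prime → (r : ℤ) ∣ z → r = 3 ∨ r = w) (hy1 : y ≠ 1) (hz1 : z ≠ 1)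
    (hfy : ∀ r : ℕ, r.Prime → (r : ℤ) ∣ y + 1 → r = 2 ∨ r = 3 ∨ r = w)
    (hfz : ∀ r : ℕ, r.Prime → (r : ℤ) ∣ z + 1 → r = 2 ∨ r = 3 ∨ r = w) :
    (y = -3 ∧ z = 5) ∨ (y = 5 ∧ z = -3) := by
  subst hx
  have key : ∀ y z : ℤ, y + z = 2 → z % 4 = 1 → y % 4 = 1 → y ≠ 1 → ¬ (3 : ℤ) ∣ y →
      (∀ r : ℕ, r.Prime → (r : ℤ) ∣ y → r = 3 ∨ r = w) →
      (∀ r : ℕ, r.Prime → (r : ℤ) ∣ z + 1 → r = 2 ∨ r = 3 ∨ r = w) → z = -3 ∨ z = 1 := by
    intro y z h hz4 hy4 hy1 h3 hey hfz
    have hne : y.natAbs ≠ 1 := by omega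
    obtain ⟨r, hr, hrd⟩ := Nat.exists_prime_and_dvd hne
    have hrd' : (r : ℤ) ∣ y := Int.natCast_dvd.2 hrd
    have hwy : (w : ℤ) ∣ y := by
      rcases hey r hr hrd' with rfl | rfl
      · exact absurd hrd' h3
      · exact hrd'
    have : (z + 1).natAbs = 2 := eq_two_of_mod_four (by omega) fun s hs hsd => by
      have hsd' : (s : ℤ) ∣ z + 1 := Int.natCast_dvd.2 hsd
      rw [show z + 1 = 3 - y by omega] at hsd'
      rcases hfz s hs (Int.natCast_dvd.2 hsd) with h | h | h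
      · exact h
      · subst h
        exact absurd (by simpa using hsd') h3
      · subst h
        have h3' : (s : ℤ) ∣ ((3 : ℕ) : ℤ) := by simpa using dvd_add hsd' hwy
        exact absurd ((Nat.prime_dvd_prime_iff_eq hs Nat.prime_three).1 (Int.natCast_dvd_natCast.1 h3')) hw3
    omega
  by_cases h3 : (3 : ℤ) ∣ y
  · rcases key z y (by omega) hy4 hz4 hz1 (by omega) hez hfy with h | h <;> omega
  · rcases key y z (by omega) hz4 hy4 hy1 h3 hey hfz with h | h <;> omega

/-- A non-abelian simple group of order `4 u ^ a w ^ b`, with odd primes `u`, `w`, has order `60`. -/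
theorem card_eq_sixty [IsSimpleGroup G] (hna : ¬ IsMulCommutative G) {u w a b : ℕ} (hu : u.Prime) (hw : w.Prime)
    (hu2 : u ≠ 2) (hw2 : w ≠ 2) (hG : Nat.card G = 4 * (u ^ a * w ^ b)) : Nat.card G = 60 := by
  classical
  haveI : Fintype G := Fintype.ofFinite G
  haveI : Fact (Nat.Prime 2) := ⟨Nat.prime_two⟩
  obtain ⟨M, hM⟩ := exists_isPModular Nat.prime_two
  haveI := hM.2.1.isPrime
  letI := irrFintype (G := G)
  set g₀ := u ^ a * w ^ b with hg₀def
  have hg₀ : Odd g₀ := ((hu.odd_of_ne_two hu2).pow).mul ((hw.odd_of_ne_two hw2).pow)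
  have hg1 : 1 < g₀ := by
    rcases Nat.lt_or_ge 1 g₀ with h | h
    · exact h
    · exfalso
      refine not_two_primes hna (p := 2) (q := 2) (a := 2) (b := 0) Nat.prime_two Nat.prime_two ?_
      have := hg₀.pos
      rw [hG, show g₀ = 1 by omega]; norm_num
  have hnc : ¬ ∃ N : Subgroup G, N.Normal ∧ Nat.card N = g₀ := by
    rintro ⟨N, hN, hc⟩
    rcases IsSimpleGroup.eq_bot_or_eq_top_of_normal N hN with rfl | rfl
    · rw [Subgroup.card_bot] at hc; omega
    · rw [Subgroup.card_top, hG] at hc; omega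
  obtain ⟨P⟩ : Nonempty (Sylow 2 G) := inferInstance
  have hP4 : Nat.card (P : Subgroup G) = 4 := by
    refine (CfsgLib.SmallSimple.card_sylow_eq P (k := 2) (m := g₀) (by rw [hG]; norm_num) ?_).trans (by norm_num)
    exact Nat.two_dvd_ne_zero.2 (Nat.odd_iff.1 hg₀)
  have hnc' : ¬ IsCyclic (P : Subgroup G) :=
    not_cyclic_minFac P ((Nat.minFac_eq_two_iff _).2 (hG ▸ ⟨2 * g₀, by ring⟩)) (by omega) (by omega)
  have hP : IsKleinFour (P : Subgroup G) :=
    ⟨hP4, (not_isCyclic_iff_exponent_eq_prime Nat.prime_two (hP4.trans (by norm_num))).1 hnc'⟩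
  have hexp : ∀ x : P, x * x = 1 := fun x => by haveI := hP; exact IsKleinFour.mul_self x
  have hone : ∀ s t : G, orderOf s = 2 → orderOf t = 2 → IsConj s t := by
    intro s t hs ht
    obtain ⟨c, hc⟩ := CfsgLib.SmallSylow.exists_invol_mem P hP hs
    obtain ⟨d, hd⟩ := CfsgLib.SmallSylow.exists_invol_mem P hP ht
    have ne1 : ∀ u g : G, orderOf u = 2 → g * u * g⁻¹ ≠ 1 := fun u g hu h => by
      rw [conj_eq_one_iff] at h
      rw [h, orderOf_one] at hu
      omega
    refine (isConj_iff.2 ⟨c, rfl⟩ : IsConj s _).trans (IsConj.trans ?_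
      (isConj_iff.2 ⟨d, rfl⟩ : IsConj t _).symm)
    refine CfsgLib.SmallSylow.transitive_of_not_le P hP (fun hle => hnc ?_) hc hd (ne1 s c hs) (ne1 t d ht)
    obtain ⟨N, hN, hNc⟩ := (CfsgLib.SmallSylow.complement_iff P hP).2 hle
    refine ⟨N, hN, ?_⟩
    have := hNc.card_mul
    rw [hP4, hG] at this
    omega
  obtain ⟨J₀, hJ₀⟩ := exists_prime_orderOf_dvd_card' (G := (P : Subgroup G)) 2 (by rw [hP4]; norm_num)
  have hJ : (J₀ : G) ∈ (P : Subgroup G) := J₀.2
  have hJ2 : orderOf (J₀ : G) = 2 := by rw [Subgroup.orderOf_coe, hJ₀]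
  set J := (J₀ : G)
  obtain ⟨hcard4, v, hv1, hv, hrel⟩ := klein_singular hM P hP4 hexp hone
  obtain ⟨-, v', -, hv', -⟩ := klein_principal hM P hP4 hexp hone
  set S := Finset.univ.filter (· ∈ principalBlock M G) with hS
  have h1S : oneIrr G ∈ S := Finset.mem_filter.2 ⟨Finset.mem_univ _, oneIrr_mem_principalBlock⟩
  obtain ⟨χ₁, χ₂, χ₃, h12, h13, h23, hS3⟩ := Finset.card_eq_three.1
    (show (S.erase (oneIrr G)).card = 3 by rw [Finset.card_erase_of_mem h1S, hcard4])
  let χ : Fin 3 → IrrCharacter G := ![χ₁, χ₂, χ₃]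
  have hmem : ∀ i, χ i ∈ principalBlock M G ∧ χ i ≠ oneIrr G := by
    intro i
    have : χ i ∈ S.erase (oneIrr G) := by rw [hS3]; fin_cases i <;> simp [χ]
    exact ⟨(Finset.mem_filter.1 (Finset.mem_of_mem_erase this)).2, (Finset.mem_erase.1 this).1⟩
  let d : Fin 3 → ℕ := fun i => charDegree (χ i : G → ℂ)
  let e : Fin 3 → ℤ := fun i => v (χ i) * d i
  have hv4 : ∀ i, (4 : ℤ) ∣ (d i : ℤ) - v (χ i) := by
    intro i
    obtain ⟨hall, -, h4⟩ := hv' (χ i) (hmem i).1
    have : ((v (χ i) : ℂ)) = (v' (χ i) : ℂ) :=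
      ((hv (χ i) (hmem i).1).2 J (by rw [hJ2])).symm.trans (hall J hJ2)
    rw [Int.cast_injective this]
    exact h4
  have hd1 : ∀ i, d i ≠ 1 := fun i h =>
    (hmem i).2 (Subtype.ext (eq_trivial_of_degree_one hna (χ i) h))
  have hvpm : ∀ i, v (χ i) = 1 ∨ v (χ i) = -1 := fun i => (hv (χ i) (hmem i).1).1
  have he4 : ∀ i, e i % 4 = 1 := by
    intro i
    have := hv4 i
    rcases hvpm i with h | h <;> simp only [e, h] at * <;> omega
  have he1 : ∀ i, e i ≠ 1 := by
    intro i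
    have := hd1 i
    rcases hvpm i with h | h <;> simp only [e, h] <;> omega
  have hsum : e 0 + e 1 + e 2 = -1 := by
    have h := hrel 1 (by simp)
    rw [← Finset.add_sum_erase _ _ h1S, hS3, Finset.sum_insert (by simp [h12, h13]),
      Finset.sum_insert (by simp [h23]), Finset.sum_singleton, hv1, oneIrr_coe] at h
    simp only [(irr_one χ₁).1, (irr_one χ₂).1, (irr_one χ₃).1] at h
    have h' : ((1 + (e 0 + (e 1 + e 2)) : ℤ) : ℂ) = 0 := by
      push_cast [e, d, χ]
      simpa using h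
    have := Int.cast_eq_zero.1 h'
    omega
  have hform := Cfsg.Agent.S4479.result M hM g₀ hg₀ hG hnc P J hJ hJ2 χ₁ χ₂ χ₃ (v χ₁) (v χ₂) (v χ₃)
    (by
      ext θ
      simp only [Set.mem_setOf_eq]
      constructor
      · intro hθ
        by_cases hθ1 : θ = oneIrr G
        · exact Or.inl (by rw [hθ1]; rfl)
        · have : θ ∈ S.erase (oneIrr G) :=
            Finset.mem_erase.2 ⟨hθ1, Finset.mem_filter.2 ⟨Finset.mem_univ _, hθ⟩⟩
          rw [hS3] at this
          simp only [Finset.mem_insert, Finset.mem_singleton] at this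
          exact Or.inr this
      · rintro (h | rfl | rfl | rfl)
        · rw [show θ = oneIrr G from Subtype.ext h]; exact oneIrr_mem_principalBlock
        · exact (hmem 0).1
        · exact (hmem 1).1
        · exact (hmem 2).1)
    ⟨fun h => (hmem 0).2 (Subtype.ext h), fun h => (hmem 1).2 (Subtype.ext h),
      fun h => (hmem 2).2 (Subtype.ext h), h12, h13, h23⟩
    ⟨hvpm 0, hvpm 1, hvpm 2⟩
    ⟨(hv χ₁ (hmem 0).1).2 J (by rw [hJ2]), (hv χ₂ (hmem 1).1).2 J (by rw [hJ2]),
      (hv χ₃ (hmem 2).1).2 J (by rw [hJ2])⟩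
  set c := Nat.card (Subgroup.centralizer ({J} : Set G)) with hc
  set k := Nat.card (Subgroup.centralizer ((P : Subgroup G) : Set G)) with hk
  have hk0 : 0 < k := Nat.card_pos
  have hc0 : 0 < c := Nat.card_pos
  -- the formula in signed degrees
  have hf0 : ∀ i, e i + 1 ≠ 0 := by
    intro i
    have := he4 i
    omega
  have hmain : (Nat.card G : ℤ) * k ^ 2 * ((e 0 + 1) * (e 1 + 1) * (e 2 + 1)) =
      8 * (e 0 * e 1 * e 2) * (c : ℤ) ^ 3 := by
    have hfe : ∀ i, (d i : ℤ) + v (χ i) = v (χ i) * (e i + 1) := by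
      intro i
      rcases hvpm i with h | h <;> simp only [e, h] <;> ring
    have hde : ∀ i, (d i : ℤ) = v (χ i) * e i := by
      intro i
      rcases hvpm i with h | h <;> simp only [e, h] <;> ring
    have hden : ∀ i, (d i : ℚ) + v (χ i) ≠ 0 := by
      intro i h
      have h' : (d i : ℤ) + v (χ i) = 0 := by exact_mod_cast h
      have := hd1 i
      have := (irr_one (χ i)).2
      rcases hvpm i with h | h <;> rw [h] at h' <;> omega
    have h0 : (charDegree (χ₁ : G → ℂ) : ℚ) + v χ₁ ≠ 0 := hden 0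
    have h1 : (charDegree (χ₂ : G → ℂ) : ℚ) + v χ₂ ≠ 0 := hden 1
    have h2 : (charDegree (χ₃ : G → ℂ) : ℚ) + v χ₃ ≠ 0 := hden 2
    have hk' : (k : ℚ) ≠ 0 := Nat.cast_ne_zero.2 hk0.ne'
    field_simp at hform
    have hz' : (Nat.card G : ℤ) * (((charDegree (χ₁ : G → ℂ) : ℤ) + v χ₁) *
        ((charDegree (χ₂ : G → ℂ) : ℤ) + v χ₂) * ((charDegree (χ₃ : G → ℂ) : ℤ) + v χ₃)) * k ^ 2 =
        8 * ((charDegree (χ₁ : G → ℂ) : ℤ) * charDegree (χ₂ : G → ℂ) * charDegree (χ₃ : G → ℂ)) * (c : ℤ) ^ 3 := by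
      apply Int.cast_injective (α := ℚ)
      push_cast
      linear_combination hform
    have hz : (Nat.card G : ℤ) * (((d 0 : ℤ) + v (χ 0)) * ((d 1 : ℤ) + v (χ 1)) * ((d 2 : ℤ) + v (χ 2))) * k ^ 2 =
        8 * ((d 0 : ℤ) * d 1 * d 2) * (c : ℤ) ^ 3 := hz'
    rw [hfe 0, hfe 1, hfe 2, hde 0, hde 1, hde 2] at hz
    have hne : v (χ 0) * v (χ 1) * v (χ 2) ≠ 0 := by
      rcases hvpm 0 with h | h <;> rcases hvpm 1 with h' | h' <;> rcases hvpm 2 with h'' | h'' <;>
        rw [h, h', h''] <;> norm_num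
    refine mul_left_cancel₀ hne ?_
    linear_combination hz
  have hsupp : ∀ i, ∀ r : ℕ, r.Prime → (r : ℤ) ∣ e i → r = u ∨ r = w := by
    intro i r hr hri
    have hrd : r ∣ d i := by
      have : (e i).natAbs = d i := by
        rcases hvpm i with h | h <;> simp [e, h]
      exact this ▸ Int.natCast_dvd.1 hri
    have h2 : r ≠ 2 := by
      rintro rfl
      have := he4 i
      omega
    have hrG : r ∣ 4 * (u ^ a * w ^ b) := hG ▸ hrd.trans (charDegree_dvd_card (χ i))
    rcases hr.dvd_mul.1 hrG with h | h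
    · exact absurd ((Nat.prime_dvd_prime_iff_eq hr Nat.prime_two).1
        (hr.dvd_of_dvd_pow (show r ∣ 2 ^ 2 by simpa using h))) h2
    rcases hr.dvd_mul.1 h with h | h
    · exact Or.inl ((Nat.prime_dvd_prime_iff_eq hr hu).1 (hr.dvd_of_dvd_pow h))
    · exact Or.inr ((Nat.prime_dvd_prime_iff_eq hr hw).1 (hr.dvd_of_dvd_pow h))
  have hfsupp : ∀ i, ∀ r : ℕ, r.Prime → (r : ℤ) ∣ e i + 1 → r = 2 ∨ r = u ∨ r = w := by
    intro i r hr hri
    by_contra hno
    push Not at hno
    obtain ⟨h2, h3, h4⟩ := hno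
    have hR : (r : ℤ) ∣ 8 * (e 0 * e 1 * e 2) * (c : ℤ) ^ 3 := by
      rw [← hmain]
      refine Dvd.dvd.mul_left ?_ _
      fin_cases i
      · exact (hri.mul_right _).mul_right _
      · exact (hri.mul_left _).mul_right _
      · exact hri.mul_left _
    have hp : Prime (r : ℤ) := Nat.prime_iff_prime_int.1 hr
    rcases hp.dvd_mul.1 hR with h | h
    · rcases hp.dvd_mul.1 h with h | h
      · exact h2 ((Nat.prime_dvd_prime_iff_eq hr Nat.prime_two).1
          (hr.dvd_of_dvd_pow (show r ∣ 2 ^ 3 by exact_mod_cast h)))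
      · rcases hp.dvd_mul.1 h with h | h
        · rcases hp.dvd_mul.1 h with h | h
          · exact (hsupp 0 r hr h).elim h3 h4
          · exact (hsupp 1 r hr h).elim h3 h4
        · exact (hsupp 2 r hr h).elim h3 h4
    · have hrc : r ∣ c := Int.natCast_dvd_natCast.1 (hp.dvd_of_dvd_pow h)
      have hrG : r ∣ 4 * (u ^ a * w ^ b) := hG ▸ hrc.trans (Subgroup.card_subgroup_dvd_card _)
      rcases hr.dvd_mul.1 hrG with h | h
      · exact h2 ((Nat.prime_dvd_prime_iff_eq hr Nat.prime_two).1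
          (hr.dvd_of_dvd_pow (show r ∣ 2 ^ 2 by simpa using h)))
      rcases hr.dvd_mul.1 h with h | h
      · exact h3 ((Nat.prime_dvd_prime_iff_eq hr hu).1 (hr.dvd_of_dvd_pow h))
      · exact h4 ((Nat.prime_dvd_prime_iff_eq hr hw).1 (hr.dvd_of_dvd_pow h))
  obtain ⟨i, hi⟩ := exists_neg_three u w hu hw e hsum he4 he1 hsupp hfsupp
  have h3 : u = 3 ∨ w = 3 :=
    ((hsupp i 3 Nat.prime_three (by rw [hi]; norm_num)).imp Eq.symm Eq.symm)
  have hprod : e 0 * e 1 * e 2 = 45 ∧ (e 0 + 1) * (e 1 + 1) * (e 2 + 1) = 24 := by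
    obtain ⟨t, ht2, hts, htf⟩ : ∃ t : ℕ, t.Prime ∧ (∀ j, ∀ r : ℕ, r.Prime → (r : ℤ) ∣ e j → r = 3 ∨ r = t) ∧
        ∀ j, ∀ r : ℕ, r.Prime → (r : ℤ) ∣ e j + 1 → r = 2 ∨ r = 3 ∨ r = t := by
      rcases h3 with rfl | rfl
      · exact ⟨w, hw, hsupp, hfsupp⟩
      · exact ⟨u, hu, fun j r hr h => (hsupp j r hr h).symm, fun j r hr h => (hfsupp j r hr h).imp id Or.symm⟩
    have ht3 : t ≠ 3 := by
      rintro rfl
      have h31 : ∀ j, (3 : ℤ) ∣ e j := by
        intro j
        have hne : (e j).natAbs ≠ 1 := by have := he4 j; have := he1 j; omega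
        obtain ⟨r, hr, hrd⟩ := Nat.exists_prime_and_dvd hne
        have hrd' : (r : ℤ) ∣ e j := Int.natCast_dvd.2 hrd
        rcases hts j r hr hrd' with rfl | rfl <;> simpa using hrd'
      have := dvd_add (dvd_add (h31 0) (h31 1)) (h31 2)
      rw [hsum] at this
      omega
    fin_cases i
    · rcases signed_degrees t ht2 ht3 (e 0) (e 1) (e 2) hsum hi (he4 1) (he4 2) (hts 1) (hts 2) (he1 1) (he1 2)
        (htf 1) (htf 2) with ⟨h, h'⟩ | ⟨h, h'⟩ <;> simp only [Fin.zero_eta] at hi <;> rw [hi, h, h'] <;> norm_num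
    · rcases signed_degrees t ht2 ht3 (e 1) (e 0) (e 2) (by omega) hi (he4 0) (he4 2) (hts 0) (hts 2) (he1 0) (he1 2)
        (htf 0) (htf 2) with ⟨h, h'⟩ | ⟨h, h'⟩ <;> simp only [Fin.mk_one] at hi <;> rw [hi, h, h'] <;> norm_num
    · rcases signed_degrees t ht2 ht3 (e 2) (e 0) (e 1) (by omega) hi (he4 0) (he4 1) (hts 0) (hts 1) (he1 0) (he1 1)
        (htf 0) (htf 1) with ⟨h, h'⟩ | ⟨h, h'⟩ <;> simp only [Fin.reduceFinMk] at hi <;> rw [hi, h, h'] <;> norm_num
  -- a character of degree three: the centralizer of `J` is `P`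
  have hdi : d i = 3 ∧ v (χ i) = -1 := by
    rcases hvpm i with h | h <;> simp only [e, h] at hi <;> first | omega | exact ⟨by omega, h⟩
  have hval : ∀ g : G, 2 ∣ orderOf g → (χ i : G → ℂ) g = -1 := fun g hg => by
    rw [(hv (χ i) (hmem i).1).2 g hg, hdi.2]; simp
  have hodd : ∀ x ∈ Subgroup.centralizer ({J} : Set G), ¬ 2 ∣ orderOf x → x = 1 := by
    intro x hx hxo
    have hcomm : Commute J x := (Subgroup.mem_centralizer_singleton_iff.1 hx).symm
    have hJJ : J * J = 1 := by rw [← pow_two, ← hJ2, pow_orderOf_eq_one]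
    have hcop : ∀ y : G, Commute J y → ¬ 2 ∣ orderOf y → 2 ∣ orderOf (J * y) := fun y hy hyo => by
      rw [hy.orderOf_mul_eq_mul_orderOf_of_coprime (by rw [hJ2]; exact (Nat.prime_two.coprime_iff_not_dvd).2 hyo),
        hJ2]
      exact dvd_mul_right _ _
    have hsq : J * x * (J * x) = x * x := by
      rw [mul_assoc, ← mul_assoc x, ← hcomm.eq, mul_assoc, ← mul_assoc J J, hJJ, one_mul]
    have h := degree_three_identity hna (χ i) hdi.1 (J * x)
    have hxx : ¬ 2 ∣ orderOf (x * x * x) := fun hd => hxo (hd.trans (by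
      rw [show x * x * x = x ^ 3 by rw [pow_succ, pow_two]]; exact orderOf_pow_dvd 3))
    rw [hsq, hval _ (hcop x hcomm hxo), show x * x * (J * x) = J * (x * x * x) by
      rw [← mul_assoc, ← (hcomm.mul_right hcomm).eq]; group,
      hval _ (hcop _ ((hcomm.mul_right hcomm).mul_right hcomm) hxx)] at h
    have hx2 : (χ i : G → ℂ) (x * x) = (χ i : G → ℂ) 1 := by
      rw [(irr_one (χ i)).1, show charDegree (χ i : G → ℂ) = 3 from hdi.1]
      push_cast
      linear_combination h / 3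
    have := eq_one_of_apply_eq_degree hna (χ i) (fun he => (hmem i).2 (Subtype.ext he)) hx2
    by_contra hne
    exact hxo (by
      rw [orderOf_eq_prime (p := 2) (by rw [pow_two, this]) hne])
  have hle : Subgroup.centralizer ((P : Subgroup G) : Set G) ≤ Subgroup.centralizer ({J} : Set G) :=
    Subgroup.centralizer_le (Set.singleton_subset_iff.2 hJ)
  have hPC : (P : Subgroup G) ≤ Subgroup.centralizer ((P : Subgroup G) : Set G) := by
    intro x hx
    rw [Subgroup.mem_centralizer_iff]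
    intro y hy
    haveI := hP
    exact congrArg Subtype.val (mul_comm_of_exponent_two IsKleinFour.exponent_two
      (⟨y, hy⟩ : (P : Subgroup G)) ⟨x, hx⟩)
  have hc4 : c = 4 := by
    have h2 : IsPGroup 2 (Subgroup.centralizer ({J} : Set G)) := by
      refine IsPGroup.of_card (Nat.eq_prime_pow_of_unique_prime_dvd Nat.card_pos.ne' fun {r} hr hd => ?_)
      by_contra hr2
      haveI := Fact.mk hr
      obtain ⟨y, hy⟩ := exists_prime_orderOf_dvd_card' (G := Subgroup.centralizer ({J} : Set G)) r hd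
      have h' : orderOf (y : G) = r := by rw [Subgroup.orderOf_coe, hy]
      have := hodd y y.2 (fun h => hr2 ((Nat.prime_dvd_prime_iff_eq Nat.prime_two hr).1 (h' ▸ h)).symm)
      rw [this, orderOf_one] at h'
      exact hr.one_lt.ne h'
    rw [hc, P.is_maximal' h2 (hPC.trans hle), hP4]
  have hk4 : k = 4 := by
    apply le_antisymm
    · exact hc4 ▸ Subgroup.card_le_of_le hle
    · exact hP4 ▸ Subgroup.card_le_of_le hPC
  rw [hprod.1, hprod.2, hc4, hk4] at hmain
  push_cast at hmain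
  omega

/-- A non-abelian simple group of order `3 s^a 2^b` with `a ≤ 2` has a self-centralising element of order three. -/
theorem exists_self_centralizing_three [IsSimpleGroup G] (hna : ¬ IsMulCommutative G) {s a b : ℕ} (hs : s.Prime)
    (hs2 : s ≠ 2) (hs3 : s ≠ 3) (ha : a ≤ 2) (hG : Nat.card G = 3 * s ^ a * 2 ^ b) :
    ∃ x : G, CfsgLib.SelfThree.SC x := by
  classical
  haveI : Fintype G := Fintype.ofFinite G
  haveI : Fact (Nat.Prime 3) := ⟨Nat.prime_three⟩
  have ha0 : a ≠ 0 := by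
    rintro rfl
    exact not_two_primes hna (p := 3) (q := 2) (a := 1) (b := b) Nat.prime_three Nat.prime_two
      (by rw [hG]; ring)
  have hns : ∀ {t n : ℕ}, t.Prime → t ≠ s → ¬ s ∣ t ^ n := fun ht hne h =>
    hne ((Nat.prime_dvd_prime_iff_eq hs ht).1 (hs.dvd_of_dvd_pow h)).symm
  have hfs : (Nat.card G).factorization s = a := by
    rw [hG, Nat.factorization_mul (mul_ne_zero (by norm_num) (pow_ne_zero _ hs.ne_zero)) (by positivity),
      Finsupp.add_apply, Nat.factorization_mul (by norm_num) (pow_ne_zero _ hs.ne_zero), Finsupp.add_apply,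
      hs.factorization_pow, Finsupp.single_eq_same, Nat.factorization_eq_zero_of_not_dvd
        (hns Nat.prime_two (Ne.symm hs2)), Nat.factorization_eq_zero_of_not_dvd (n := 3)
        (fun h => hs3 ((Nat.prime_dvd_prime_iff_eq hs Nat.prime_three).1 h))]
    omega
  obtain ⟨χ, hne, hsd, h2d⟩ := exists_prime_to (G := G) hs
    (hG ▸ (dvd_pow_self s ha0).trans (Dvd.intro_left 3 rfl |>.mul_right _)) (hfs ▸ ha) Nat.prime_two
  have hd3 : charDegree (χ : G → ℂ) = 3 := by
    have h := charDegree_dvd_card χ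
    rw [hG] at h
    have h1 := (((Nat.prime_two.coprime_iff_not_dvd.2 h2d).pow_left b).symm).dvd_of_dvd_mul_right h
    have h2 := (((hs.coprime_iff_not_dvd.2 hsd).pow_left a).symm).dvd_of_dvd_mul_right h1
    rcases (Nat.dvd_prime Nat.prime_three).1 h2 with e | e
    · exact absurd (Subtype.ext (eq_trivial_of_degree_one hna χ e)) hne
    · exact e
  have hf3 : (Nat.card G).factorization 3 = 1 := by
    rw [hG, Nat.factorization_mul (mul_ne_zero (by norm_num) (pow_ne_zero _ hs.ne_zero)) (by positivity),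
      Finsupp.add_apply, Nat.factorization_mul (by norm_num) (pow_ne_zero _ hs.ne_zero), Finsupp.add_apply,
      Nat.prime_three.factorization_self, Nat.factorization_eq_zero_of_not_dvd (n := s ^ a)
        (fun h => hs3 ((Nat.prime_dvd_prime_iff_eq Nat.prime_three hs).1 (Nat.prime_three.dvd_of_dvd_pow h)).symm),
      Nat.factorization_eq_zero_of_not_dvd (n := 2 ^ b)
        (fun h => by simpa using Nat.prime_three.dvd_of_dvd_pow h)]
  have hvan : ∀ g : G, 3 ∣ orderOf g → (χ : G → ℂ) g = 0 := fun g hg =>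
    eq_zero_of_defectZero Nat.prime_three χ (by rw [hf3, hd3, pow_one]) hg
  obtain ⟨x, hx⟩ := exists_prime_orderOf_dvd_card' (G := G) 3 (hG ▸ (Dvd.intro _ rfl).mul_right _)
  refine ⟨x, hx, ?_⟩
  have hle : Subgroup.zpowers x ≤ Subgroup.centralizer ({x} : Set G) :=
    Subgroup.zpowers_le.2 (Subgroup.mem_centralizer_singleton_iff.2 rfl)
  refine (Subgroup.eq_of_le_of_card_ge hle ?_).symm
  rw [Nat.card_zpowers, hx]
  obtain ⟨n, hn⟩ : 3 ∣ Nat.card (Subgroup.centralizer ({x} : Set G)) := by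
    rw [← hx, ← Nat.card_zpowers]; exact Subgroup.card_dvd_of_le hle
  rw [hn]
  suffices n = 1 by subst this; norm_num
  by_contra hn1
  obtain ⟨r, hr, hrn⟩ := Nat.exists_prime_and_dvd hn1
  haveI := Fact.mk hr
  have hr3 : r ≠ 3 := by
    rintro rfl
    have h9 : 3 ^ 2 ∣ Nat.card G := (show 3 ^ 2 ∣ Nat.card (Subgroup.centralizer ({x} : Set G)) by
      rw [hn, pow_two]; exact Nat.mul_dvd_mul_left 3 hrn).trans (Subgroup.card_subgroup_dvd_card _)
    have := (Nat.Prime.pow_dvd_iff_le_factorization Nat.prime_three Nat.card_pos.ne').1 h9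
    omega
  obtain ⟨y, hy⟩ := exists_prime_orderOf_dvd_card' (G := Subgroup.centralizer ({x} : Set G)) r
    (hn ▸ hrn.mul_left 3)
  have hy' : orderOf (y : G) = r := by rw [Subgroup.orderOf_coe, hy]
  have hcomm : Commute x (y : G) := (Subgroup.mem_centralizer_singleton_iff.1 y.2).symm
  have hcop : Nat.Coprime 3 r := (Nat.coprime_primes Nat.prime_three hr).2 (Ne.symm hr3)
  have hxy : orderOf (x * y) = 3 * r := by
    rw [hcomm.orderOf_mul_eq_mul_orderOf_of_coprime (by rw [hx, hy']; exact hcop), hx, hy']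
  have h2 : 3 ∣ orderOf (x * y * (x * y)) := by
    rw [← pow_two]
    have h := orderOf_dvd_of_pow_eq_one (show (x * (y : G)) ^ (2 * orderOf ((x * (y : G)) ^ 2)) = 1 by
      rw [pow_mul, pow_orderOf_eq_one])
    rw [hxy] at h
    exact (show Nat.Coprime 3 2 by norm_num).dvd_of_dvd_mul_left ((dvd_mul_right 3 r).trans h)
  have h := degree_three_identity hna χ hd3 (x * y)
  rw [hvan _ (hxy ▸ dvd_mul_right 3 r), hvan _ h2] at h
  have hy3 : x * y * (x * y) * (x * y) = (y : G) ^ 3 := by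
    rw [show x * y * (x * y) * (x * y) = (x * y) ^ 3 by rw [pow_succ, pow_two], hcomm.mul_pow, ← hx,
      pow_orderOf_eq_one, one_mul]
  rw [hy3] at h
  have := eq_one_of_apply_eq_degree hna χ (fun he => hne (Subtype.ext he)) (g := (y : G) ^ 3) (by
    rw [(irr_one χ).1, hd3]; push_cast; linear_combination h / 2)
  have := orderOf_dvd_of_pow_eq_one this
  rw [hy'] at this
  exact hr3 ((Nat.prime_dvd_prime_iff_eq hr Nat.prime_three).1 this)

end CfsgLib.ThreePrimes
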