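import Cfsg.Agent.ThreePrimes.Degree
import Cfsg.Agent.ThreePrimes.FourThree
import Cfsg.Agent.Blocks.DefectZeroVanish
import Cfsg.Agent.S0910

/-!
# The Sylow `r`-subgroup of a simple group of order `p ^ a * q ^ b * r`

The sum over the principal `q`-block of `χ(1) χ(w)` vanishes for a `q`-singular element `w`. A member
of `q`-power degree is principal, one with `p` dividing the degree contributes a multiple of `p`, and
the rest have `r`-defect zero, so vanish at `w` if `w` is also `r`-singular. So no such `w` exists.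
-/

set_option autoImplicit false
set_option linter.style.haveILetI false

namespace CfsgLib.ThreePrimes

open Cfsg Finset CfsgLib.Block CfsgLib.Block.Chr CfsgLib.Char
open scoped ComplexConjugate Classical

universe u

variable {G : Type u} [Group G] [Finite G]

/-- No element has order divisible by `q * r`. -/
theorem not_dvd_orderOf [IsSimpleGroup G] (hna : ¬ IsMulCommutative G) {p q r a b : ℕ} (hp : p.Prime)
    (hq : q.Prime) (hr : r.Prime) (hpr : p ≠ r) (hqr : q ≠ r)
    (hG : Nat.card G = p ^ a * q ^ b * r) {w : G} (hqw : q ∣ orderOf w) : ¬ r ∣ orderOf w := by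
  intro hrw
  letI : Fintype G := Fintype.ofFinite G
  haveI := Fact.mk hq
  obtain ⟨M, hM⟩ := exists_isPModular hq
  haveI := hM.2.1.isPrime
  letI := irrFintype (G := G)
  set B := principalBlock M G with hBdef
  have hab : ∃ x y : G, x * y ≠ y * x := by
    by_contra h
    exact hna ⟨⟨fun x y => by_contra fun hne => h ⟨x, y, hne⟩⟩⟩
  have hfr : (Nat.card G).factorization r = 1 := by
    rw [hG, Nat.factorization_mul (mul_ne_zero (pow_ne_zero _ hp.ne_zero) (pow_ne_zero _ hq.ne_zero))
      hr.ne_zero, Nat.factorization_mul (pow_ne_zero _ hp.ne_zero) (pow_ne_zero _ hq.ne_zero),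
      hp.factorization_pow, hq.factorization_pow, hr.factorization]
    simp [hpr, hqr]
  have hsum := weak_orth hM (isIntClass_blockCoeff (isPBlock_principalBlock (M := M) (G := G)))
    (g := (1 : G)) (h := w) (by rw [orderOf_one]; exact hq.not_dvd_one) hqw
  rw [← add_sum_erase _ _ (mem_filter.2 ⟨mem_univ _, oneIrr_mem_principalBlock⟩),
    oneIrr_apply, oneIrr_apply, map_one, one_mul] at hsum
  have hp0 : (p : ℂ) ≠ 0 := Nat.cast_ne_zero.2 hp.ne_zero
  have hterm : ∀ χ ∈ (univ.filter (· ∈ B)).erase (oneIrr G),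
      IsIntegral ℤ ((χ : G → ℂ) 1 * conj ((χ : G → ℂ) w) / (p : ℂ)) := fun χ hχ => by
    obtain ⟨hne, hmem⟩ := mem_erase.1 hχ
    rw [(irr_one χ).1]
    by_cases hpd : p ∣ charDegree (χ : G → ℂ)
    · obtain ⟨k, hk⟩ := hpd
      rw [hk, Nat.cast_mul, conj_irr, mul_assoc, mul_div_cancel_left₀ _ hp0]
      exact (isIntegral_natCast_complex k).mul (IsCharacter.isIntegral (isCharacter_irr χ) _)
    by_cases hrd : r ∣ charDegree (χ : G → ℂ)
    · rw [eq_zero_of_defectZero hr χ (by rw [hfr, pow_one]; exact hrd) hrw, map_zero, mul_zero,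
        zero_div]
      exact isIntegral_zero
    exfalso
    have h := charDegree_dvd_card χ
    rw [hG] at h
    have h1 := ((hr.coprime_iff_not_dvd.2 hrd).symm).dvd_of_dvd_mul_right h
    obtain ⟨k, -, hk⟩ := (Nat.dvd_prime_pow hq).1
      ((((hp.coprime_iff_not_dvd.2 hpd).pow_left a).symm).dvd_of_dvd_mul_left h1)
    refine hne (Subtype.ext (Cfsg.Agent.S0910.result q M hM hab χ (mem_filter.1 hmem).2 k ?_))
    rw [(irr_one χ).1, hk, Nat.cast_pow]
  have h1 : IsIntegral ℤ (((1 : ℕ) : ℂ) / (p : ℂ)) := by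
    have h2 := (IsIntegral.sum _ hterm).neg
    rw [← sum_div, ← neg_div, ← eq_neg_of_add_eq_zero_left hsum] at h2
    simpa using h2
  exact hp.not_dvd_one (dvd_of_isIntegral_div hp.ne_zero h1)

/-- A Sylow `r`-subgroup is its own centralizer. -/
theorem centralizer_eq_self [IsSimpleGroup G] {p q r a b : ℕ} (hp : p.Prime) (hq : q.Prime)
    (hr : r.Prime) (hpq : p ≠ q) (hpr : p ≠ r) (hqr : q ≠ r) (hG : Nat.card G = p ^ a * q ^ b * r)
    (S : Subgroup G) (hS : Nat.card S = r) : Subgroup.centralizer (S : Set G) = S := by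
  haveI := Fact.mk hr
  haveI : IsCyclic S := isCyclic_of_prime_card hS
  have hle : S ≤ Subgroup.centralizer (S : Set G) := S.le_centralizer
  by_cases hna : IsMulCommutative G
  · rcases IsSimpleGroup.eq_bot_or_eq_top_of_normal S
      ⟨fun n hn g => by rw [hna.is_comm.comm g n, mul_inv_cancel_right]; exact hn⟩ with h | h
    · rw [h, Subgroup.card_bot] at hS
      exact absurd hS hr.one_lt.ne
    · exact le_antisymm (h ▸ le_top) hle
  refine le_antisymm (fun c hc => ?_) hle
  obtain ⟨s, hs⟩ := IsCyclic.exists_ofOrder_eq_natCard (α := S)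
  have hso : orderOf (s : G) = r := by rw [Subgroup.orderOf_coe, hs, hS]
  have hcs : Commute c (s : G) := ((Subgroup.mem_centralizer_iff.1 hc) _ s.2).symm
  have hcard : ∀ n : ℕ, n ∣ orderOf c → n.Prime → n = r := fun n hn hnp => by
    by_contra hne
    obtain ⟨d, hd, hdn⟩ : ∃ d : G, Commute d (s : G) ∧ orderOf d = n :=
      ⟨c ^ (orderOf c / n), hcs.pow_left _, by
        rw [orderOf_pow_orderOf_div (orderOf_pos c).ne' hn]⟩
    have hw : orderOf (d * (s : G)) = n * r := by
      rw [hd.orderOf_mul_eq_mul_orderOf_of_coprime (by rw [hdn, hso]; exact (Nat.coprime_primes hnp hr).2 hne),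
        hdn, hso]
    have hnG : n ∣ p ^ a * q ^ b * r := hG ▸ hdn ▸ orderOf_dvd_natCard d
    rcases (Nat.Prime.dvd_mul hnp).1 hnG with h | h
    · rcases (Nat.Prime.dvd_mul hnp).1 h with h | h
      · obtain rfl := (Nat.prime_dvd_prime_iff_eq hnp hp).1 (hnp.dvd_of_dvd_pow h)
        exact not_dvd_orderOf hna hq hp hr hqr hpr
          (by rw [hG, mul_comm (_ ^ a)]) (w := d * (s : G)) (hw ▸ dvd_mul_right _ _) (hw ▸ dvd_mul_left _ _)
      · obtain rfl := (Nat.prime_dvd_prime_iff_eq hnp hq).1 (hnp.dvd_of_dvd_pow h)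
        exact not_dvd_orderOf hna hp hq hr hpr hqr hG (w := d * (s : G))
          (hw ▸ dvd_mul_right _ _) (hw ▸ dvd_mul_left _ _)
    · exact hne ((Nat.prime_dvd_prime_iff_eq hnp hr).1 h)
  -- so `c` is an `r`-element centralizing `S`, and the Sylow subgroup has order `r`
  have hrc : IsPGroup r ↥(S ⊔ Subgroup.zpowers c) := by
    refine IsPGroup.to_sup_of_normal_left' (IsPGroup.of_card (n := 1) (by rw [hS, pow_one])) ?_ ?_
    · refine IsPGroup.of_card (n := (orderOf c).primeFactorsList.length) ?_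
      rw [Nat.card_zpowers]
      exact Nat.eq_prime_pow_of_unique_prime_dvd (orderOf_pos c).ne' fun hd hdv => hcard _ hdv hd
    · exact Subgroup.zpowers_le.2 (Subgroup.centralizer_le_normalizer _ hc)
  obtain ⟨n, hn⟩ := IsPGroup.iff_card.1 hrc
  have hn1 : n ≤ 1 := by
    have h := hn ▸ Subgroup.card_subgroup_dvd_card (S ⊔ Subgroup.zpowers c)
    rw [hG] at h
    have hcop : Nat.Coprime (r ^ n) (p ^ a * q ^ b) :=
      (Nat.Coprime.mul_right (((Nat.coprime_primes hr hp).2 hpr.symm).pow_right a)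
        (((Nat.coprime_primes hr hq).2 hqr.symm).pow_right b)).pow_left n
    have h' : r ^ n ∣ r ^ 1 := by rw [pow_one]; exact hcop.dvd_of_dvd_mul_left h
    exact (Nat.pow_dvd_pow_iff_le_right hr.one_lt).1 h'
  have hle2 : S ⊔ Subgroup.zpowers c = S :=
    (Subgroup.eq_of_le_of_card_ge le_sup_left (by
      rw [hn, hS]; exact (Nat.pow_le_pow_right hr.pos hn1).trans (pow_one r).le)).symm
  exact hle2 ▸ Subgroup.mem_sup_right (Subgroup.mem_zpowers c)

end CfsgLib.ThreePrimes
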