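import Cfsg.Agent.Blocks.BrauerFeit
import Cfsg.Agent.Blocks.TraceFormula
import Cfsg.Agent.Blocks.Principal
import Cfsg.Agent.Blocks.Congr
import Cfsg.Agent.Blocks.Regular
import Cfsg.Agent.Char.Burnside
import Cfsg.Agent.Char.Linear
import Mathlib.GroupTheory.Perm.Cycle.Type

/-!
# Prime power degrees in groups of order divisible by three primes

When the Sylow `p`-subgroup has order `p` or `p ^ 2`, the members of the principal `p`-block have
degree prime to `p`, and weak block orthogonality shows that one nonprincipal member has degree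
prime to `r`.
-/

set_option autoImplicit false
set_option linter.style.haveILetI false

namespace CfsgLib.ThreePrimes

open Cfsg Finset CfsgLib.Block CfsgLib.Block.Chr CfsgLib.Char
open scoped ComplexConjugate Classical

universe u

variable {G : Type u} [Group G] [Fintype G] {p : ℕ}

theorem principal_defect {M : Ideal AlgInt} (hM : IsPModular p M) :
    blockDefect p (principalBlock M G) = (Nat.card G).factorization p := by
  haveI := hM.2.1.isPrime
  have h : (fun χ : IrrCharacter G => (charDegree (χ : G → ℂ)).factorization p) (oneIrr G) = 0 := by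
    show (charDegree (fun _ : G => (1 : ℂ))).factorization p = 0
    rw [charDegree]
    simp
  have h0 : sInf ((fun χ : IrrCharacter G => (charDegree (χ : G → ℂ)).factorization p) ''
      principalBlock M G) = 0 :=
    Nat.eq_zero_of_le_zero (Nat.sInf_le ⟨oneIrr G, oneIrr_mem_principalBlock, h⟩)
  rw [blockDefect, h0, Nat.sub_zero]

/-- Some nonprincipal member of the principal block has degree prime to `p` and to `r`. -/
theorem exists_prime_to (hp : p.Prime) (hdvd : p ∣ Nat.card G)
    (ha : (Nat.card G).factorization p ≤ 2) {r : ℕ} (hr : r.Prime) :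
    ∃ χ : IrrCharacter G, χ ≠ oneIrr G ∧ ¬ p ∣ charDegree (χ : G → ℂ) ∧
      ¬ r ∣ charDegree (χ : G → ℂ) := by
  haveI := Fact.mk hp
  obtain ⟨M, hM⟩ := exists_isPModular hp
  haveI := hM.2.1.isPrime
  letI := irrFintype (G := G)
  set B := principalBlock M G with hBdef
  have hB : IsPBlock M B := isPBlock_principalBlock
  have hpdeg : ∀ χ ∈ B, ¬ p ∣ charDegree (χ : G → ℂ) := fun χ hχ h => by
    have h1 := factorization_degree hM hB hχ
    rw [principal_defect hM, Nat.sub_self, zero_add] at h1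
    have h2 := hp.factorization_pos_of_dvd (irr_one χ).2.ne' h
    have h3 := height_add_two_le hM hB hχ (by omega)
    rw [principal_defect hM] at h3
    omega
  by_contra hcon
  simp only [not_exists, not_and, not_not] at hcon
  obtain ⟨x, hx⟩ := exists_prime_orderOf_dvd_card' p hdvd
  have hsum := weak_orth hM (isIntClass_blockCoeff hB) (g := (1 : G)) (h := x)
    (by rw [orderOf_one]; exact hp.not_dvd_one) (hx ▸ dvd_refl p)
  rw [← add_sum_erase _ _ (mem_filter.2 ⟨mem_univ _, oneIrr_mem_principalBlock⟩),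
    oneIrr_apply, oneIrr_apply, map_one, one_mul] at hsum
  have hr0 : (r : ℂ) ≠ 0 := Nat.cast_ne_zero.2 hr.ne_zero
  have hterm : ∀ χ ∈ (univ.filter (· ∈ B)).erase (oneIrr G),
      IsIntegral ℤ ((χ : G → ℂ) 1 * conj ((χ : G → ℂ) x) / (r : ℂ)) := fun χ hχ => by
    obtain ⟨hne, hmem⟩ := mem_erase.1 hχ
    obtain ⟨k, hk⟩ := hcon χ hne (hpdeg χ (mem_filter.1 hmem).2)
    rw [(irr_one χ).1, hk, Nat.cast_mul, conj_irr, mul_assoc, mul_div_cancel_left₀ _ hr0]
    exact (isIntegral_natCast_complex k).mul (IsCharacter.isIntegral (isCharacter_irr χ) _)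
  have h1 : IsIntegral ℤ (((1 : ℕ) : ℂ) / (r : ℂ)) := by
    have h2 := (IsIntegral.sum _ hterm).neg
    rw [← sum_div, ← neg_div, ← eq_neg_of_add_eq_zero_left hsum] at h2
    simpa using h2
  exact hr.not_dvd_one (dvd_of_isIntegral_div hr.ne_zero h1)

/-- A nonprincipal character of `q`-power degree. -/
theorem exists_prime_power_degree [Nontrivial G] {q r a b c : ℕ} (hp : p.Prime) (hq : q.Prime)
    (hr : r.Prime) (hpq : p ≠ q) (hpr : p ≠ r) (ha : a ≤ 2)
    (hG : Nat.card G = p ^ a * q ^ b * r ^ c) :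
    ∃ χ : IrrCharacter G, (χ : G → ℂ) ≠ (fun _ => 1) ∧
      ∃ k : ℕ, charDegree (χ : G → ℂ) = q ^ k := by
  rcases Nat.eq_zero_or_pos a with rfl | ha0
  · haveI := isSolvable_of_card_eq (G := G) q r b c hq hr (by rw [hG, pow_zero, one_mul])
    obtain ⟨g, hg⟩ : ∃ g : G, g ∉ commutator G := by
      by_contra h
      simp only [not_exists, not_not] at h
      exact (IsSolvable.commutator_lt_top_of_nontrivial G).ne ((Subgroup.eq_top_iff' _).2 h)
    obtain ⟨lam, hlam⟩ := exists_hom_ne_one hg
    refine ⟨(linearCharEquiv lam).1, fun h => hlam (Units.ext ?_), 0, ?_⟩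
    · exact congrFun h g
    · rw [pow_zero, charDegree, (linearCharEquiv lam).2]
      simp
  have hdvd : p ∣ Nat.card G := hG ▸ Dvd.dvd.mul_right (Dvd.dvd.mul_right (dvd_pow_self p ha0.ne') _) _
  have hcop : ∀ {s n : ℕ}, s.Prime → p ≠ s → ¬ p ∣ s ^ n := fun hs hne h =>
    hne ((Nat.prime_dvd_prime_iff_eq hp hs).1 (hp.dvd_of_dvd_pow h))
  have hfa : (Nat.card G).factorization p = a := by
    rw [hG, Nat.factorization_mul (mul_ne_zero (pow_ne_zero _ hp.ne_zero) (pow_ne_zero _ hq.ne_zero))
      (pow_ne_zero _ hr.ne_zero), Finsupp.add_apply,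
      Nat.factorization_mul (pow_ne_zero _ hp.ne_zero) (pow_ne_zero _ hq.ne_zero), Finsupp.add_apply,
      hp.factorization_pow, Finsupp.single_eq_same, Nat.factorization_eq_zero_of_not_dvd (hcop hq hpq),
      Nat.factorization_eq_zero_of_not_dvd (hcop hr hpr)]
    rfl
  obtain ⟨χ, hne, hpd, hrd⟩ := exists_prime_to (G := G) hp hdvd (hfa ▸ ha) hr
  refine ⟨χ, fun h => hne (Subtype.ext h), ?_⟩
  have hd : charDegree (χ : G → ℂ) ∣ q ^ b := by
    have h := charDegree_dvd_card χ
    rw [hG] at h
    have h1 := (((hr.coprime_iff_not_dvd.2 hrd).pow_left c).symm).dvd_of_dvd_mul_right h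
    exact (((hp.coprime_iff_not_dvd.2 hpd).pow_left a).symm).dvd_of_dvd_mul_left h1
  obtain ⟨k, -, hk⟩ := (Nat.dvd_prime_pow hq).1 hd
  exact ⟨k, hk⟩

end CfsgLib.ThreePrimes
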